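import Groth.Agent.SchemeMorphisms.LRSImm.Factor
import Groth.Agent.QCohMod.Affine
import Mathlib.AlgebraicGeometry.IdealSheaf.Subscheme
import Mathlib.AlgebraicGeometry.Limits
import Mathlib.AlgebraicGeometry.Morphisms.ClosedImmersion

/-!
Closed immersions of locally ringed spaces into schemes.
-/

universe u

open CategoryTheory AlgebraicGeometry Opposite TopologicalSpace

set_option backward.isDefEq.respectTransparency false

namespace Groth.LRSImmAux

variable {X : Scheme.{u}} {Z : LocallyRingedSpace.{u}} (i : Z ⟶ X.toLocallyRingedSpace)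

theorem eq_zero_of_locally {W : LocallyRingedSpace.{u}} {U : Opens W.toTopCat}
    (s : W.presheaf.obj (op U))
    (h : ∀ x ∈ U, ∃ (V : Opens W.toTopCat) (hV : V ≤ U), x ∈ V ∧ rho W hV s = 0) : s = 0 :=
  eq_of_locally s 0 fun x hx => by
    obtain ⟨V, hV, hxV, e⟩ := h x hx
    exact ⟨V, hV, hxV, e.trans (map_zero _).symm⟩

/-- Locally generated kernels are quasi-coherent: sections killed on a basic open are killed on the
whole affine open after multiplication by a power. -/
theorem exists_pow_mul_killed (hk : LRSImm.KerLocallyGenerated i) {U : X.Opens} (hU : IsAffineOpen U)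
    (g b : Γ(X, U))
    (hb : i.c.app (op (X.basicOpen g)) (rho X.toLocallyRingedSpace (X.basicOpen_le g) b) = 0) :
    ∃ m : ℕ, i.c.app (op U) (g ^ m * b) = 0 := by
  classical
  have key : ∀ x : U, ∃ (V : X.Opens) (hV : V ≤ U) (m : ℕ), x.1 ∈ V ∧
      i.c.app (op V) (rho X.toLocallyRingedSpace hV (g ^ m * b)) = 0 := by
    rintro ⟨x, hx⟩
    obtain ⟨U₀, hxU₀, ι, s, hs, hspan⟩ := hk x
    obtain ⟨h, hle, hxh⟩ := hU.exists_basicOpen_le (V := U₀) (⟨x, hxU₀⟩ : U₀) hx
    set V := X.basicOpen h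
    have hV : IsAffineOpen V := hU.basicOpen h
    have hVU : V ≤ U := X.basicOpen_le h
    let s' : ι → Γ(X, V) := fun j => rho X.toLocallyRingedSpace hle (s j)
    let J := Ideal.span (Set.range s')
    have hJ : ∀ a ∈ J, i.c.app (op V) a = 0 := fun a ha => by
      have : J ≤ RingHom.ker (i.c.app (op V)).hom := Ideal.span_le.mpr (by
        rintro _ ⟨j, rfl⟩
        change i.c.app (op V) (rho X.toLocallyRingedSpace hle (s j)) = 0
        rw [app_rho, hs, map_zero])
      exact this ha
    set b' := rho X.toLocallyRingedSpace hVU b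
    set g' := rho X.toLocallyRingedSpace hVU g
    have hrad : g' ∈ (J.colon {b'}).radical := by
      rw [Ideal.radical_eq_sInf]
      refine Ideal.mem_sInf.mpr fun {P} hP => ?_
      obtain ⟨hPJ, hPp⟩ := hP
      by_contra hgP
      let q : Spec Γ(X, V) := ⟨P, hPp⟩
      have hy : hV.fromSpec q ∈ V := hV.opensRange_fromSpec.le ⟨q, rfl⟩
      have hq : hV.primeIdealOf ⟨hV.fromSpec q, hy⟩ = q :=
        hV.fromSpec.isOpenEmbedding.injective (hV.fromSpec_primeIdealOf ⟨_, hy⟩)
      have hyg : hV.fromSpec q ∈ X.basicOpen g' :=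
        (Groth.QCohMod.mem_basicOpen_iff_notMem_primeIdealOf hV g' _ hy).mpr (by rw [hq]; exact hgP)
      have hyg' : hV.fromSpec q ∈ X.basicOpen g := by
        rw [show g' = rho X.toLocallyRingedSpace hVU g from rfl] at hyg
        erw [X.basicOpen_res g (homOfLE hVU).op] at hyg
        exact hyg.2
      have hgerm : X.presheaf.germ V _ hy b' ∈
          RingHom.ker ((TopCat.Presheaf.stalkFunctor CommRingCat (hV.fromSpec q)).map i.c).hom := by
        rw [RingHom.mem_ker]
        have e1 : X.presheaf.germ V _ hy b' = X.presheaf.germ (X.basicOpen g) _ hyg'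
            (rho X.toLocallyRingedSpace (X.basicOpen_le g) b) :=
          (TopCat.Presheaf.germ_res_apply X.presheaf (homOfLE hVU) _ hy b).trans
            (TopCat.Presheaf.germ_res_apply X.presheaf (homOfLE (X.basicOpen_le g)) _ hyg' b).symm
        rw [e1]
        exact (TopCat.Presheaf.stalkFunctor_map_germ_apply (X.basicOpen g) _ hyg' i.c _).trans
          ((congrArg _ hb).trans (map_zero _))
      rw [← hspan _ (hle hy)] at hgerm
      let := TopCat.Presheaf.algebra_section_stalk X.presheaf (⟨_, hy⟩ : V)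
      have := hV.isLocalization_stalk (⟨_, hy⟩ : V)
      have hmap : X.presheaf.germ V _ hy b' ∈
          J.map (algebraMap Γ(X, V) (X.presheaf.stalk (hV.fromSpec q))) := by
        rw [Ideal.map_span, ← Set.range_comp]
        refine (le_of_eq (congrArg Ideal.span (congrArg Set.range (funext fun j => ?_)))) hgerm
        exact (TopCat.Presheaf.germ_res_apply X.presheaf (homOfLE hle) _ hy (s j)).symm
      obtain ⟨c, hc, hcb⟩ := (IsLocalization.algebraMap_mem_map_algebraMap_iff
        (hV.primeIdealOf ⟨_, hy⟩).asIdeal.primeCompl _ J b').mp hmap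
      rw [hq] at hc
      exact hc (hPJ (Submodule.mem_colon_singleton.mpr hcb))
    obtain ⟨m, hm⟩ := hrad
    refine ⟨V, hVU, m, hxh, ?_⟩
    rw [map_mul, map_pow]
    exact hJ _ (Submodule.mem_colon_singleton.mp hm)
  choose V hV m hxV hm using key
  obtain ⟨S, hS⟩ := hU.isCompact.elim_finite_subcover (fun x : U => (V x : Set X))
    (fun x => (V x).isOpen) (fun x hx => Set.mem_iUnion.mpr ⟨⟨x, hx⟩, hxV _⟩)
  refine ⟨S.sup m, eq_zero_of_locally _ fun z hz => ?_⟩
  obtain ⟨x, hx, hzx⟩ := Set.mem_iUnion₂.mp (hS (hz : i.base z ∈ U))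
  refine ⟨(Opens.map i.base).obj (V x), fun w hw => hV x hw, hzx, ?_⟩
  rw [← app_rho i (hV x), ← Nat.sub_add_cancel (Finset.le_sup hx : m x ≤ S.sup m), pow_add,
    mul_assoc, map_mul, map_mul, hm, mul_zero]

/-- The kernel of a closed immersion of locally ringed spaces as an ideal sheaf. -/
noncomputable def kerIdeal (hk : LRSImm.KerLocallyGenerated i) : X.IdealSheafData where
  ideal U := RingHom.ker (i.c.app (op U.1)).hom
  map_ideal_basicOpen U g := by
    let := (X.presheaf.map (homOfLE <| X.basicOpen_le g).op).hom.toAlgebra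
    have : IsLocalization.Away g Γ(X, X.basicOpen g) := U.2.isLocalization_basicOpen g
    refine le_antisymm (Ideal.map_le_iff_le_comap.mpr fun a ha => ?_) fun a ha => ?_
    · change i.c.app (op (X.basicOpen g)) (rho X.toLocallyRingedSpace (X.basicOpen_le g) a) = 0
      rw [app_rho, show i.c.app (op U.1) a = 0 from ha, map_zero]
    · obtain ⟨⟨b, _, n, rfl⟩, hb⟩ := IsLocalization.surj (Submonoid.powers g) a
      have hb0 : i.c.app (op (X.basicOpen g))
          (rho X.toLocallyRingedSpace (X.basicOpen_le g) b) = 0 := by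
        refine (congrArg (i.c.app (op (X.basicOpen g))).hom hb.symm).trans ?_
        rw [map_mul, show (i.c.app (op (X.basicOpen g))).hom a = 0 from ha, zero_mul]
      obtain ⟨m, hm⟩ := exists_pow_mul_killed i hk U.2 g b hb0
      have hu : IsUnit (algebraMap Γ(X, U) Γ(X, X.basicOpen g) (g ^ (m + n))) :=
        IsLocalization.map_units Γ(X, X.basicOpen g) (⟨g ^ (m + n), m + n, rfl⟩ : Submonoid.powers g)
      refine (Ideal.mul_unit_mem_iff_mem _ hu).mp ?_
      rw [pow_add, map_mul, ← mul_assoc, mul_comm a, mul_assoc, hb, ← map_mul]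
      exact Ideal.mem_map_of_mem _ hm

variable {i}

theorem app_eq_zero_iff_of_affine (W : LocallyRingedSpace.{u}) (j : W ⟶ X.toLocallyRingedSpace)
    (h : ∀ U : X.affineOpens, ∀ t, i.c.app (op U.1) t = 0 → j.c.app (op U.1) t = 0) :
    KillsKer i j := fun U s hs => eq_zero_of_locally _ fun w hw => by
  obtain ⟨_, ⟨V, hV, rfl⟩, hxV, hVU⟩ :=
    X.isBasis_affineOpens.exists_subset_of_mem_open (hw : j.base w ∈ U) U.isOpen
  refine ⟨(Opens.map j.base).obj V, fun _ h' => hVU h', hxV, ?_⟩
  rw [← app_rho j hVU]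
  refine h ⟨V, hV⟩ _ ?_
  rw [app_rho, hs, map_zero]

theorem isLocallySurjective_subscheme (K : X.IdealSheafData) :
    TopCat.Presheaf.IsLocallySurjective K.subschemeι.toLRSHom.c := by
  rw [TopCat.Presheaf.isLocallySurjective_iff]
  intro U t x hx
  obtain ⟨_, ⟨V, hV, rfl⟩, hxV, hVU⟩ :=
    X.isBasis_affineOpens.exists_subset_of_mem_open hx U.isOpen
  obtain ⟨s, hs⟩ := K.subschemeι_app_surjective ⟨V, hV⟩
    (rho K.subscheme.toLocallyRingedSpace (show (Opens.map K.subschemeι.base).obj V ≤ _ from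
      fun _ h' => hVU h') t)
  exact ⟨V, hVU, ⟨s, hs⟩, hxV⟩

theorem exists_iso_subscheme (hi : LRSImm.IsClosedImmersion i) :
    ∃ e : (kerIdeal i hi.2.2).subscheme.toLocallyRingedSpace ≅ Z,
      e.hom ≫ i = (kerIdeal i hi.2.2).subschemeι.toLRSHom := by
  set K := kerIdeal i hi.2.2
  have hker : ∀ (U : X.affineOpens) t,
      K.subschemeι.toLRSHom.c.app (op U.1) t = 0 ↔ i.c.app (op U.1) t = 0 := fun U t => by
    have := congrArg (fun I => t ∈ I) (K.ker_subschemeι_app U)
    exact Iff.of_eq this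
  exact exists_iso_of_ker hi.1 hi.2.1 _ K.subschemeι.isClosedEmbedding
    (isLocallySurjective_subscheme K)
    (app_eq_zero_iff_of_affine _ _ fun U t h => (hker U t).mpr h)
    (app_eq_zero_iff_of_affine (i := K.subschemeι.toLRSHom) _ _ fun U t h => (hker U t).mp h)

theorem exists_iso_spec_quotient {R : Type u} [CommRing R]
    {Z : LocallyRingedSpace.{u}} (i : Z ⟶ (Spec (CommRingCat.of R)).toLocallyRingedSpace)
    (hi : LRSImm.IsClosedImmersion i) (I : Ideal R)
    (hI : I = RingHom.ker ((Scheme.ΓSpecIso (CommRingCat.of R)).inv ≫ i.c.app (op ⊤)).hom) :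
    ∃ e : Z ≅ (Spec (CommRingCat.of (R ⧸ I))).toLocallyRingedSpace,
      e.hom ≫ (Spec.map (CommRingCat.ofHom (Ideal.Quotient.mk I))).toLRSHom = i := by
  set j := Spec.map (CommRingCat.ofHom (Ideal.Quotient.mk I))
  have : IsClosedImmersion j := IsClosedImmersion.spec_of_surjective _ Ideal.Quotient.mk_surjective
  set K := kerIdeal i hi.2.2
  obtain ⟨e, he⟩ := exists_iso_subscheme hi
  have hK : j.ker = K := by
    refine Scheme.IdealSheafData.ext_of_isAffine ?_
    rw [Scheme.Hom.ker_apply]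
    ext t
    obtain ⟨r, rfl⟩ := (Scheme.ΓSpecIso (CommRingCat.of R)).commRingCatIsoToRingEquiv.symm.surjective t
    change j.app ⊤ ((Scheme.ΓSpecIso (CommRingCat.of R)).inv r) = 0 ↔
      i.c.app (op ⊤) ((Scheme.ΓSpecIso (CommRingCat.of R)).inv r) = 0
    have hnat := congr($(Scheme.ΓSpecIso_inv_naturality (CommRingCat.ofHom (Ideal.Quotient.mk I))) r)
    have hr : r ∈ I ↔ i.c.app (op ⊤) ((Scheme.ΓSpecIso (CommRingCat.of R)).inv r) = 0 := by
      subst hI; rfl
    rw [← hr, ← Ideal.Quotient.eq_zero_iff_mem, ← map_eq_zero_iff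
      (Scheme.ΓSpecIso (CommRingCat.of (R ⧸ I))).inv.hom
      (Scheme.ΓSpecIso (CommRingCat.of (R ⧸ I))).commRingCatIsoToRingEquiv.symm.injective]
    exact Eq.congr_left hnat.symm
  have e2 : IsIso j.toImage := inferInstance
  let ι : (Spec (CommRingCat.of (R ⧸ I))) ≅ K.subscheme :=
    asIso j.toImage ≪≫ eqToIso (congrArg Scheme.IdealSheafData.subscheme hK)
  have hι : ι.hom ≫ K.subschemeι = j := by
    have : ∀ (K' : (Spec (CommRingCat.of R)).IdealSheafData) (h : j.ker = K'),
        (asIso j.toImage ≪≫ eqToIso (congrArg Scheme.IdealSheafData.subscheme h)).hom ≫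
          K'.subschemeι = j := by
      rintro _ rfl
      simp
    exact this K hK
  refine ⟨e.symm ≪≫ (Scheme.forgetToLocallyRingedSpace.mapIso ι).symm, ?_⟩
  rw [← hι]
  change (e.inv ≫ ι.inv.toLRSHom) ≫ ι.hom.toLRSHom ≫ K.subschemeι.toLRSHom = i
  rw [Category.assoc, ← Category.assoc ι.inv.toLRSHom,
    show ι.inv.toLRSHom ≫ ι.hom.toLRSHom = 𝟙 _ from congrArg (fun f => f.toLRSHom) ι.inv_hom_id,
    Category.id_comp, ← he, Iso.inv_hom_id_assoc]

end Groth.LRSImmAux
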