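import Groth.Prelude.Def_W4stkremschemesLRS
import Mathlib.Geometry.RingedSpace.LocallyRingedSpace
import Mathlib.Topology.Sheaves.SheafCondition.UniqueGluing
import Mathlib.Topology.Sheaves.LocallySurjective
import Mathlib.Geometry.RingedSpace.SheafedSpace

/-!
Factoring morphisms of locally ringed spaces through embeddings with locally surjective comorphism.
-/

universe u

open CategoryTheory AlgebraicGeometry Opposite TopologicalSpace

set_option backward.isDefEq.respectTransparency false

namespace Groth.LRSImmAux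

variable {Z X Y : LocallyRingedSpace.{u}} (i : Z ⟶ X)

/-- Restriction of sections. -/
noncomputable abbrev rho (W : LocallyRingedSpace.{u}) {U V : Opens W.toTopCat} (h : V ≤ U) :
    W.presheaf.obj (op U) →+* W.presheaf.obj (op V) :=
  (W.presheaf.map (homOfLE h).op).hom

theorem rho_rho (W : LocallyRingedSpace.{u}) {U V V' : Opens W.toTopCat} (h : V ≤ U) (h' : V' ≤ V)
    (s : W.presheaf.obj (op U)) : rho W h' (rho W h s) = rho W (h'.trans h) s := by
  rw [← RingHom.comp_apply, ← CommRingCat.hom_comp, ← Functor.map_comp]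
  rfl

theorem rho_rfl (W : LocallyRingedSpace.{u}) {U : Opens W.toTopCat} (h : U ≤ U)
    (s : W.presheaf.obj (op U)) : rho W h s = s := by
  change (W.presheaf.map (𝟙 (op U))).hom s = s
  rw [CategoryTheory.Functor.map_id]
  rfl

theorem app_rho {W W' : LocallyRingedSpace.{u}} (f : W ⟶ W') {U V : Opens W'.toTopCat} (h : V ≤ U)
    (s : W'.presheaf.obj (op U)) :
    f.c.app (op V) (rho W' h s) =
      rho W (show (Opens.map f.base).obj V ≤ (Opens.map f.base).obj U from fun _ hx => h hx)
        (f.c.app (op U) s) :=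
  congr($(f.c.naturality (homOfLE h).op) s)

theorem eq_of_locally {W : LocallyRingedSpace.{u}} {U : Opens W.toTopCat}
    (s t : W.presheaf.obj (op U))
    (h : ∀ x ∈ U, ∃ (V : Opens W.toTopCat) (hV : V ≤ U), x ∈ V ∧ rho W hV s = rho W hV t) : s = t := by
  choose V hV hxV e using fun x : U => h x.1 x.2
  exact TopCat.Sheaf.eq_of_locally_eq' W.sheaf (fun x : U => V x) U (fun x => homOfLE (hV x))
    (fun x hx => Opens.mem_iSup.mpr ⟨⟨x, hx⟩, hxV _⟩) s t e

theorem exists_glue {W : LocallyRingedSpace.{u}} {ι : Type u} (U : Opens W.toTopCat)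
    (V : ι → Opens W.toTopCat) (hV : ∀ k, V k ≤ U) (hcov : ∀ x ∈ U, ∃ k, x ∈ V k)
    (s : ∀ k, W.presheaf.obj (op (V k)))
    (h : ∀ k l, rho W (inf_le_left : V k ⊓ V l ≤ V k) (s k) = rho W inf_le_right (s l)) :
    ∃ g : W.presheaf.obj (op U), ∀ k, rho W (hV k) g = s k := by
  obtain ⟨g, hg, -⟩ := TopCat.Sheaf.existsUnique_gluing' W.sheaf V U (fun k => homOfLE (hV k))
    (fun x hx => Opens.mem_iSup.mpr (hcov x hx)) s fun k l => h k l
  exact ⟨g, hg⟩

variable {i} (hi : Topology.IsClosedEmbedding i.base) (hs : TopCat.Presheaf.IsLocallySurjective i.c)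

include hs in
theorem exists_local_lift {U : Opens X.toTopCat} (s : Z.presheaf.obj (op ((Opens.map i.base).obj U)))
    {x : X.toTopCat} (hx : x ∈ U) :
    ∃ (W : Opens X.toTopCat) (hW : W ≤ U) (t : X.presheaf.obj (op W)), x ∈ W ∧
      i.c.app (op W) t =
        rho Z (show (Opens.map i.base).obj W ≤ (Opens.map i.base).obj U from fun _ hz => hW hz) s := by
  obtain ⟨W, hW, ⟨t, ht⟩, hxW⟩ := (TopCat.Presheaf.isLocallySurjective_iff i.c).mp hs U s x hx
  exact ⟨W, hW, t, hxW, ht⟩

include hi hs in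
theorem stalkMap_surjective (z : Z.toTopCat) : Function.Surjective (i.stalkMap z) := by
  intro w
  obtain ⟨V, hzV, s, rfl⟩ := TopCat.Presheaf.exists_germ_eq Z.presheaf w
  obtain ⟨U, hUo, hU⟩ := hi.isInducing.isOpen_iff.mp V.isOpen
  have hle : (Opens.map i.base).obj ⟨U, hUo⟩ ≤ V := fun z' hz' => hU.le hz'
  have hzU : i.base z ∈ (⟨U, hUo⟩ : Opens X.toTopCat) := hU.ge hzV
  obtain ⟨W, hW, t, hxW, ht⟩ := exists_local_lift hs (rho Z hle s) hzU
  refine ⟨X.presheaf.germ W (i.base z) hxW t, ?_⟩
  rw [LocallyRingedSpace.stalkMap_germ_apply, ht, rho_rho]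
  exact TopCat.Presheaf.germ_res_apply Z.presheaf (homOfLE _) z hxW s

variable (f : Y ⟶ X)

/-- The kernel condition for factoring through `i`. -/
def KillsKer (i : Z ⟶ X) (f : Y ⟶ X) : Prop :=
  ∀ (U : Opens X.toTopCat) (s : X.presheaf.obj (op U)),
    i.c.app (op U) s = 0 → f.c.app (op U) s = 0

variable {f} (hk : KillsKer i f)

include hi hk in
theorem base_mem_range (y : Y.toTopCat) : f.base y ∈ Set.range i.base := by
  by_contra hy
  let U : Opens X.toTopCat := ⟨(Set.range i.base)ᶜ, hi.isClosed_range.isOpen_compl⟩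
  have h0 : i.c.app (op U) 1 = 0 := eq_of_locally _ _ fun z hz => absurd ⟨z, rfl⟩ hz
  have := congrArg (Y.presheaf.germ ((Opens.map f.base).obj U) y hy).hom (hk U 1 h0)
  rw [map_one, map_one, map_zero] at this
  exact one_ne_zero this

/-- The continuous map underlying the factorization. -/
noncomputable def liftBase : Y.toTopCat ⟶ Z.toTopCat :=
  TopCat.ofHom ⟨fun y => (base_mem_range hi hk y).choose, hi.isInducing.continuous_iff.mpr
    (f.base.hom.continuous.congr fun y => (base_mem_range hi hk y).choose_spec.symm)⟩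

theorem base_liftBase (y : Y.toTopCat) : i.base (liftBase hi hk y) = f.base y :=
  (base_mem_range hi hk y).choose_spec

theorem preimage_le {W : Opens X.toTopCat} {V : Opens Z.toTopCat}
    (h : (Opens.map i.base).obj W ≤ V) :
    (Opens.map f.base).obj W ≤ (Opens.map (liftBase hi hk)).obj V := fun y hy =>
  h (show i.base (liftBase hi hk y) ∈ W by rw [base_liftBase]; exact hy)

/-- The relation between a section of `O_Z` and its pullback. -/
def Pulls (V : Opens Z.toTopCat) (s : Z.presheaf.obj (op V))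
    (r : Y.presheaf.obj (op ((Opens.map (liftBase hi hk)).obj V))) : Prop :=
  ∀ (W : Opens X.toTopCat) (h : (Opens.map i.base).obj W ≤ V) (t : X.presheaf.obj (op W)),
    i.c.app (op W) t = rho Z h s → f.c.app (op W) t = rho Y (preimage_le hi hk h) r

include hs in
theorem exists_chart {V : Opens Z.toTopCat} (s : Z.presheaf.obj (op V)) {y : Y.toTopCat}
    (hy : y ∈ (Opens.map (liftBase hi hk)).obj V) :
    ∃ (W : Opens X.toTopCat) (h : (Opens.map i.base).obj W ≤ V) (t : X.presheaf.obj (op W)),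
      f.base y ∈ W ∧ i.c.app (op W) t = rho Z h s := by
  obtain ⟨U, hUo, hU⟩ := hi.isInducing.isOpen_iff.mp V.isOpen
  have hle : (Opens.map i.base).obj ⟨U, hUo⟩ ≤ V := fun z' hz' => hU.le hz'
  have hzU : f.base y ∈ (⟨U, hUo⟩ : Opens X.toTopCat) := by
    rw [← base_liftBase hi hk y]; exact hU.ge hy
  obtain ⟨W, hW, t, hxW, ht⟩ := exists_local_lift hs (rho Z hle s) hzU
  exact ⟨W, fun z hz => hle (hW hz), t, hxW, ht.trans (rho_rho _ _ _ _)⟩

include hs in
theorem pulls_unique {V : Opens Z.toTopCat} {s : Z.presheaf.obj (op V)} {r r'}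
    (h : Pulls hi hk V s r) (h' : Pulls hi hk V s r') : r = r' := by
  refine eq_of_locally r r' fun y hy => ?_
  obtain ⟨W, hW, t, hyW, ht⟩ := exists_chart hi hs hk s hy
  exact ⟨(Opens.map f.base).obj W, preimage_le hi hk hW, hyW,
    (h W hW t ht).symm.trans (h' W hW t ht)⟩

theorem f_app_eq_of_i_app_eq (hk : KillsKer i f) {W : Opens X.toTopCat}
    {t t' : X.presheaf.obj (op W)} (h : i.c.app (op W) t = i.c.app (op W) t') :
    f.c.app (op W) t = f.c.app (op W) t' := by
  rw [← sub_eq_zero, ← map_sub]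
  exact hk W _ (by rw [map_sub, h, sub_self])

include hs in
theorem exists_pulls (V : Opens Z.toTopCat) (s : Z.presheaf.obj (op V)) :
    ∃ r, Pulls hi hk V s r := by
  choose W hW t hyW ht using fun y : (Opens.map (liftBase hi hk)).obj V => exists_chart hi hs hk s y.2
  obtain ⟨r, hr⟩ := exists_glue ((Opens.map (liftBase hi hk)).obj V)
    (fun y => (Opens.map f.base).obj (W y)) (fun y => preimage_le hi hk (hW y))
    (fun y hy => ⟨⟨y, hy⟩, hyW ⟨y, hy⟩⟩) (fun y => f.c.app (op (W y)) (t y)) (fun a b => by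
      have e : i.c.app (op (W a ⊓ W b)) (rho X inf_le_left (t a)) =
          i.c.app (op (W a ⊓ W b)) (rho X inf_le_right (t b)) := by
        rw [app_rho, app_rho, ht, ht, rho_rho, rho_rho]
      have e' := f_app_eq_of_i_app_eq hk e
      rw [app_rho, app_rho] at e'
      exact e')
  refine ⟨r, fun W' h' t' ht' => ?_⟩
  refine eq_of_locally _ _ fun y hy => ?_
  let a : (Opens.map (liftBase hi hk)).obj V := ⟨y, preimage_le hi hk h' hy⟩
  refine ⟨(Opens.map f.base).obj (W' ⊓ W a), fun z hz => hz.1, ⟨hy, hyW a⟩, ?_⟩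
  have e : i.c.app (op (W' ⊓ W a)) (rho X inf_le_left t') =
      i.c.app (op (W' ⊓ W a)) (rho X inf_le_right (t a)) := by
    rw [app_rho, app_rho, ht', ht, rho_rho, rho_rho]
  have e' := f_app_eq_of_i_app_eq hk e
  rw [app_rho, app_rho, ← hr a, rho_rho] at e'
  rw [rho_rho]
  exact e'

/-- The pullback of sections. -/
noncomputable def pullSec (V : Opens Z.toTopCat) (s : Z.presheaf.obj (op V)) :
    Y.presheaf.obj (op ((Opens.map (liftBase hi hk)).obj V)) :=
  (exists_pulls hi hs hk V s).choose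

theorem pulls_pullSec (V : Opens Z.toTopCat) (s : Z.presheaf.obj (op V)) :
    Pulls hi hk V s (pullSec hi hs hk V s) :=
  (exists_pulls hi hs hk V s).choose_spec

theorem pullSec_eq {V : Opens Z.toTopCat} {s : Z.presheaf.obj (op V)} {r}
    (h : Pulls hi hk V s r) : pullSec hi hs hk V s = r :=
  pulls_unique hi hs hk (pulls_pullSec hi hs hk V s) h

theorem pullSec_one (V : Opens Z.toTopCat) : pullSec hi hs hk V 1 = 1 :=
  pullSec_eq hi hs hk fun W h t ht => by
    rw [map_one] at ht ⊢
    rw [f_app_eq_of_i_app_eq hk (t' := 1) (by rw [ht, map_one]), map_one]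

theorem pullSec_zero (V : Opens Z.toTopCat) : pullSec hi hs hk V 0 = 0 :=
  pullSec_eq hi hs hk fun W h t ht => by
    rw [map_zero] at ht ⊢
    exact hk W t ht

include hs in
theorem pulls_op {V : Opens Z.toTopCat} (op₂ : ∀ {R : CommRingCat.{u}}, R → R → R)
    (hop : ∀ {R S : CommRingCat.{u}} (φ : R →+* S) (a b : R), φ (op₂ a b) = op₂ (φ a) (φ b))
    {s s' : Z.presheaf.obj (op V)} {r r'} (h : Pulls hi hk V s r) (h' : Pulls hi hk V s' r') :
    Pulls hi hk V (op₂ s s') (op₂ r r') := by
  intro W hW t ht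
  refine eq_of_locally _ _ fun y hy => ?_
  have hxW : f.base y ∈ W := hy
  have hyV : y ∈ (Opens.map (liftBase hi hk)).obj V := preimage_le hi hk hW hy
  obtain ⟨W₁, hW₁, t₁, hy₁, ht₁⟩ := exists_chart hi hs hk s hyV
  obtain ⟨W₂, hW₂, t₂, hy₂, ht₂⟩ := exists_chart hi hs hk s' hyV
  let W₀ := W ⊓ W₁ ⊓ W₂
  refine ⟨(Opens.map f.base).obj W₀, fun z hz => hz.1.1, ⟨⟨hxW, hy₁⟩, hy₂⟩, ?_⟩
  have e : i.c.app (op W₀) (rho X (inf_le_left.trans inf_le_left) t) =
      i.c.app (op W₀) (op₂ (rho X (inf_le_left.trans inf_le_right) t₁) (rho X inf_le_right t₂)) := by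
    rw [app_rho, ht, rho_rho, hop (i.c.app (op W₀)).hom, app_rho, app_rho, ht₁, ht₂, rho_rho,
      rho_rho]
    exact hop _ s s'
  have e' := f_app_eq_of_i_app_eq hk e
  rw [app_rho, hop (f.c.app (op W₀)).hom, app_rho, app_rho, h W₁ hW₁ t₁ ht₁, h' W₂ hW₂ t₂ ht₂,
    rho_rho, rho_rho] at e'
  rw [rho_rho]
  exact e'.trans (hop _ r r').symm

/-- The pullback of sections as a ring homomorphism. -/
noncomputable def pullHom (V : Opens Z.toTopCat) :
    Z.presheaf.obj (op V) →+* Y.presheaf.obj (op ((Opens.map (liftBase hi hk)).obj V)) where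
  toFun := pullSec hi hs hk V
  map_one' := pullSec_one hi hs hk V
  map_zero' := pullSec_zero hi hs hk V
  map_mul' s s' := pullSec_eq hi hs hk
    (pulls_op hi hs hk (fun a b => a * b) (fun φ => map_mul φ)
      (pulls_pullSec hi hs hk V s) (pulls_pullSec hi hs hk V s'))
  map_add' s s' := pullSec_eq hi hs hk
    (pulls_op hi hs hk (fun a b => a + b) (fun φ => map_add φ)
      (pulls_pullSec hi hs hk V s) (pulls_pullSec hi hs hk V s'))

/-- The factorization as a morphism of presheafed spaces. -/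
noncomputable def liftPre : Y.toPresheafedSpace ⟶ Z.toPresheafedSpace where
  base := liftBase hi hk
  c :=
    { app := fun V => CommRingCat.ofHom (pullHom hi hs hk V.unop)
      naturality := fun V V' g => by
        ext s
        refine pullSec_eq hi hs hk fun W h t ht => ?_
        have h₀ : (Opens.map i.base).obj W ≤ V.unop := h.trans g.unop.le
        have := pulls_pullSec hi hs hk V.unop s W h₀ t
          (ht.trans (rho_rho Z g.unop.le h s))
        exact this.trans (rho_rho Y (fun z hz => g.unop.le hz) (preimage_le hi hk h) _).symm }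

theorem liftPre_comp : liftPre hi hs hk ≫ i.toHom = f.toHom := by
  refine PresheafedSpace.ext _ _ (TopCat.hom_ext (ContinuousMap.ext fun y => base_liftBase hi hk y)) ?_
  ext U t
  have := pulls_pullSec hi hs hk ((Opens.map i.base).obj U) (i.c.app (op U) t) U le_rfl t
    (rho_rfl _ _ _).symm
  refine Eq.trans ?_ this.symm
  change Y.presheaf.map _ (pullSec hi hs hk _ (i.c.app (op U) t)) = Y.presheaf.map _ _
  exact congrArg (fun g => Y.presheaf.map g (pullSec hi hs hk ((Opens.map i.base).obj U)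
    (i.c.app (op U) t))) (Subsingleton.elim _ _)

theorem isUnit_of_isUnit_pullSec (y : Y.toTopCat) (W : Opens X.toTopCat)
    (hW : i.base (liftBase hi hk y) ∈ W) (t : X.presheaf.obj (op W))
    (ha : IsUnit (Y.presheaf.germ ((Opens.map (liftBase hi hk)).obj ((Opens.map i.base).obj W)) y hW
      (pullSec hi hs hk ((Opens.map i.base).obj W) (i.c.app (op W) t)))) :
    IsUnit (X.presheaf.germ W (i.base (liftBase hi hk y)) hW t) := by
  have hyW : f.base y ∈ W := base_liftBase hi hk y ▸ hW
  have e := pulls_pullSec hi hs hk ((Opens.map i.base).obj W) (i.c.app (op W) t) W le_rfl t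
    (rho_rfl _ _ _).symm
  have h1 : f.stalkMap y (X.presheaf.germ W (f.base y) hyW t) =
      Y.presheaf.germ ((Opens.map (liftBase hi hk)).obj ((Opens.map i.base).obj W)) y hW
        (pullSec hi hs hk ((Opens.map i.base).obj W) (i.c.app (op W) t)) :=
    (LocallyRingedSpace.stalkMap_germ_apply f W y hyW t).trans
      ((congrArg (Y.presheaf.germ ((Opens.map f.base).obj W) y hyW).hom e).trans
        (TopCat.Presheaf.germ_res_apply Y.presheaf
          (homOfLE (preimage_le hi hk (le_refl ((Opens.map i.base).obj W)))) y hyW _))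
  have hu : IsUnit (X.presheaf.germ W (f.base y) hyW t) :=
    (isUnit_map_iff (f.stalkMap y).hom _).mp (h1.symm ▸ ha)
  have h2 := TopCat.Presheaf.germ_stalkSpecializes_apply (F := X.presheaf) hyW
    (specializes_of_eq (base_liftBase hi hk y)) t
  exact h2 ▸ hu.map (X.presheaf.stalkSpecializes (specializes_of_eq (base_liftBase hi hk y))).hom

include hi hs hk in
/-- Existence of the factorization. -/
theorem exists_fac : ∃ g : Y ⟶ Z, g ≫ i = f := by
  refine ⟨⟨liftPre hi hs hk, fun y => ⟨fun a ha => ?_⟩⟩, LocallyRingedSpace.Hom.ext' (liftPre_comp hi hs hk)⟩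
  obtain ⟨b, rfl⟩ := stalkMap_surjective hi hs (liftBase hi hk y) a
  obtain ⟨W, hW, t, rfl⟩ := TopCat.Presheaf.exists_germ_eq X.presheaf b
  refine IsUnit.map (i.stalkMap (liftBase hi hk y)).hom (isUnit_of_isUnit_pullSec hi hs hk y W hW t ?_)
  have h1 : i.stalkMap (liftBase hi hk y) (X.presheaf.germ W (i.base (liftBase hi hk y)) hW t) =
      Z.presheaf.germ ((Opens.map i.base).obj W) (liftBase hi hk y) hW (i.c.app (op W) t) :=
    LocallyRingedSpace.stalkMap_germ_apply i W (liftBase hi hk y) hW t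
  have h2 := PresheafedSpace.stalkMap_germ_apply (liftPre hi hs hk) ((Opens.map i.base).obj W) y hW
    (i.c.app (op W) t)
  exact ((congrArg ((liftPre hi hs hk).stalkMap y).hom h1).trans h2) ▸ ha

include hi hs in
theorem mono_of_closedEmbedding {g g' : Y ⟶ Z} (h : g ≫ i = g' ≫ i) : g = g' := by
  have : Mono i.toShHom := SheafedSpace.mono_of_base_injective_of_stalk_epi _ hi.injective fun z =>
    ConcreteCategory.epi_of_surjective _ (stalkMap_surjective hi hs z)
  refine LocallyRingedSpace.forgetToSheafedSpace.map_injective ((cancel_mono i.toShHom).mp ?_)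
  exact congrArg LocallyRingedSpace.forgetToSheafedSpace.map h

include hi hs in
theorem exists_fac_iff :
    ((∃ g : Y ⟶ Z, g ≫ i = f) ↔ KillsKer i f) ∧
      ∀ g g' : Y ⟶ Z, g ≫ i = f → g' ≫ i = f → g = g' := by
  refine ⟨⟨?_, fun hk => exists_fac hi hs hk⟩, fun g g' h h' =>
    mono_of_closedEmbedding hi hs (h.trans h'.symm)⟩
  rintro ⟨g, rfl⟩ U s h0
  rw [LocallyRingedSpace.comp_c_app, CommRingCat.comp_apply, h0]
  exact map_zero _

include hi hs in
/-- Two embeddings with the same kernels are isomorphic. -/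
theorem exists_iso_of_ker {W : LocallyRingedSpace.{u}} (j : W ⟶ X)
    (hj : Topology.IsClosedEmbedding j.base) (hjs : TopCat.Presheaf.IsLocallySurjective j.c)
    (h : KillsKer i j) (h' : KillsKer j i) : ∃ e : W ≅ Z, e.hom ≫ i = j := by
  obtain ⟨a, ha⟩ := exists_fac hi hs h
  obtain ⟨b, hb⟩ := exists_fac hj hjs h'
  refine ⟨⟨a, b, mono_of_closedEmbedding hj hjs ?_, mono_of_closedEmbedding hi hs ?_⟩, ha⟩
  · rw [Category.assoc, hb, ha, Category.id_comp]
  · rw [Category.assoc, ha, hb, Category.id_comp]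

end Groth.LRSImmAux
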