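import Mathlib.AlgebraicGeometry.Limits
import Mathlib.AlgebraicGeometry.AffineScheme

/-!
A locally ringed space which is the disjoint union of two affine schemes is an affine scheme.
-/

universe u

open CategoryTheory AlgebraicGeometry Opposite TopologicalSpace

set_option backward.isDefEq.respectTransparency false

namespace Groth.LRSImmAux

theorem isIso_toΓSpec_of_isCompl (X : LocallyRingedSpace.{u}) (U V : Opens X.toTopCat)
    (hUV : IsCompl U V) (A B : CommRingCat.{u})
    (eU : X.restrict U.isOpenEmbedding ≅ (Spec A).toLocallyRingedSpace)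
    (eV : X.restrict V.isOpenEmbedding ≅ (Spec B).toLocallyRingedSpace) :
    IsIso X.toΓSpec := by
  let S : Scheme.{u} :=
    { toLocallyRingedSpace := X
      local_affine := fun x => by
        by_cases hx : x ∈ U
        · exact ⟨⟨U, hx⟩, A, ⟨eU⟩⟩
        · refine ⟨⟨V, ?_⟩, B, ⟨eV⟩⟩
          have : x ∈ U ⊔ V := by rw [hUV.sup_eq_top]; trivial
          exact (this : x ∈ (U : Set X.toTopCat) ∨ x ∈ (V : Set X.toTopCat)).resolve_left hx }
  have haff : ∀ (W : S.Opens) (C : CommRingCat.{u}),
      (X.restrict W.isOpenEmbedding ≅ (Spec C).toLocallyRingedSpace) → IsAffineOpen W := fun W C e =>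
    IsAffine.of_isIso (Scheme.fullyFaithfulForgetToLocallyRingedSpace.preimageIso
      (X := W.toScheme) (Y := Spec C) e).hom
  have h := (haff U A eU).sup_of_disjoint (haff V B eV) hUV.disjoint
  have htop : IsAffineOpen (⊤ : S.Opens) := by
    have e : (⊤ : S.Opens) = (U : S.Opens) ⊔ V := hUV.sup_eq_top.symm
    exact e ▸ h
  have : IsAffine (⊤ : S.Opens).toScheme := htop
  have : IsAffine S := IsAffine.of_isIso S.topIso.inv
  have hS : IsIso S.toSpecΓ := IsAffine.affine
  exact Functor.map_isIso Scheme.forgetToLocallyRingedSpace S.toSpecΓ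

end Groth.LRSImmAux
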